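import Groth.Agent.H12AlgSp.TwoClosed.Algebra
import Groth.Agent.H12AlgSp.HomToAffine
import Groth.Agent.H12AlgSp.IdealEt
import Groth.Agent.H13EtMod.Coh
import Groth.Agent.H13AlgSp.FibreRed

/-!
Functions on charts of a space covered by two affine closed subspaces.
-/

set_option autoImplicit false
set_option backward.isDefEq.respectTransparency false
set_option linter.style.haveILetI false

universe u

open CategoryTheory CategoryTheory.Limits AlgebraicGeometry Opposite
open AlgSp Groth.Agent.H13AlgSp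

namespace Groth.Agent.H12AlgSp.TwoClosed

theorem exists_lift_affine {T W Q : Scheme.{u}} [IsAffine T] [IsAffine W] (w : T ⟶ W) [IsClosedImmersion w]
    (m : Q ⟶ W) (h : RingHom.ker w.appTop.hom ≤ RingHom.ker m.appTop.hom) : ∃ l : Q ⟶ T, l ≫ w = m := by
  obtain ⟨l, hl⟩ := exists_appTop_eq (CommRingCat.ofHom
    (RingHom.liftOfSurjective w.appTop.hom (w.app_surjective ⊤ (isAffineOpen_top W)) ⟨m.appTop.hom, h⟩))
  refine ⟨l, ext_of_isAffine (CommRingCat.hom_ext ?_)⟩
  rw [Scheme.Hom.comp_appTop, hl]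
  exact RingHom.liftOfSurjective_comp _ _ _

theorem exists_quot (W : Scheme.{u}) [IsAffine W] (J : Ideal Γ(W, ⊤)) :
    ∃ (Q : Scheme.{u}) (_ : IsAffine Q) (m : Q ⟶ W), RingHom.ker m.appTop.hom = J := by
  obtain ⟨m, hm⟩ := exists_appTop_eq (Y := Spec (CommRingCat.of (Γ(W, ⊤) ⧸ J))) (T := W)
    (CommRingCat.ofHom (Ideal.Quotient.mk J) ≫ (Scheme.ΓSpecIso _).inv)
  refine ⟨_, inferInstance, m, ?_⟩
  rw [hm, CommRingCat.hom_comp, RingHom.ker_comp_of_injective _
    (ConcreteCategory.bijective_of_isIso (Scheme.ΓSpecIso (CommRingCat.of (Γ(W, ⊤) ⧸ J))).inv).1]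
  exact Ideal.mk_ker

variable {S : Scheme.{u}} {U : Sp S}

theorem exists_lift_sq {V P oY W : Over S} {h : P ⟶ oY} {w : P ⟶ W} {i : (yon S).obj oY ⟶ U}
    {a : (yon S).obj W ⟶ U} (sq : IsPullback ((yon S).map h) ((yon S).map w) i a) (x : V ⟶ oY) (y : V ⟶ W)
    (e : (yon S).map x ≫ i = (yon S).map y ≫ a) : ∃ l : V ⟶ P, l ≫ h = x ∧ l ≫ w = y := by
  obtain ⟨l', h₁, h₂⟩ := sq.exists_lift _ _ e
  obtain ⟨l, rfl⟩ := (yon S).map_surjective l'
  rw [← Functor.map_comp] at h₁ h₂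
  exact ⟨l, (yon S).map_injective h₁, (yon S).map_injective h₂⟩

/-- The trace of a closed subspace on a chart. -/
theorem exists_piece {oY : Over S} [IsAffine oY.left] {i : (yon S).obj oY ⟶ U} (hi : RepWith @IsClosedImmersion i)
    {W : Over S} [IsAffine W.left] {a : (yon S).obj W ⟶ U} (ha : RepWith @Etale a) :
    ∃ (P : Over S) (h : P ⟶ oY) (w : P ⟶ W), IsPullback ((yon S).map h) ((yon S).map w) i a ∧
      IsClosedImmersion w.left ∧ Etale h.left ∧ IsAffine P.left ∧
      Points.ofPt a ⁻¹' Set.range (Points.map i) = Set.range w.left := by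
  obtain ⟨P, w, h', sq⟩ := hi.1 a
  obtain ⟨h, rfl⟩ := (yon S).map_surjective h'
  haveI : IsClosedImmersion w.left := hi.2 _ _ _ sq
  exact ⟨P, h, w, sq, ‹_›, ha.2 _ _ _ sq.flip, isAffine_of_isAffineHom w.left, preimage_ofPt_range sq⟩

variable {oY oZ TD : Over S} [IsAffine oY.left] [IsAffine oZ.left] [IsAffine TD.left]
  (iY : (yon S).obj oY ⟶ U) (iZ : (yon S).obj oZ ⟶ U) (c : TD ⟶ oY) (d : TD ⟶ oZ)

/-- Pairs of functions agreeing on the intersection. -/
noncomputable def glueRing : Subring (Γ(oY.left, ⊤) × Γ(oZ.left, ⊤)) :=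
  RingHom.eqLocus (c.left.appTop.hom.comp (RingHom.fst _ _)) (d.left.appTop.hom.comp (RingHom.snd _ _))

/-- First component. -/
noncomputable abbrev prY : glueRing c d →+* Γ(oY.left, ⊤) := (RingHom.fst _ _).comp (glueRing c d).subtype

/-- Second component. -/
noncomputable abbrev prZ : glueRing c d →+* Γ(oZ.left, ⊤) := (RingHom.snd _ _).comp (glueRing c d).subtype

theorem appTop_prY_eq (r : glueRing c d) : c.left.appTop (prY c d r) = d.left.appTop (prZ c d r) := r.2

theorem surjective_prY [IsClosedImmersion d.left] : Function.Surjective (prY c d) := fun x => by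
  obtain ⟨y, hy⟩ := d.left.app_surjective ⊤ (isAffineOpen_top _) (c.left.appTop x)
  exact ⟨⟨(x, y), hy.symm⟩, rfl⟩

theorem surjective_prZ [IsClosedImmersion c.left] : Function.Surjective (prZ c d) := fun y => by
  obtain ⟨x, hx⟩ := c.left.app_surjective ⊤ (isAffineOpen_top _) (d.left.appTop y)
  exact ⟨⟨(x, y), hx⟩, rfl⟩

/-- Functions on a chart prescribed on both traces. -/
def IsTheta (W : Over S) (a : (yon S).obj W ⟶ U) (θ : glueRing c d →+* Γ(W.left, ⊤)) : Prop :=
  (∀ (P : Over S) (h : P ⟶ oY) (w : P ⟶ W), (yon S).map h ≫ iY = (yon S).map w ≫ a →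
    (w.left.appTop.hom).comp θ = (h.left.appTop.hom).comp (prY c d)) ∧
  (∀ (P : Over S) (h : P ⟶ oZ) (w : P ⟶ W), (yon S).map h ≫ iZ = (yon S).map w ≫ a →
    (w.left.appTop.hom).comp θ = (h.left.appTop.hom).comp (prZ c d))

theorem IsTheta.comp {W W' : Over S} {a : (yon S).obj W ⟶ U} {θ : glueRing c d →+* Γ(W.left, ⊤)}
    (hθ : IsTheta iY iZ c d W a θ) (m : W' ⟶ W) :
    IsTheta iY iZ c d W' ((yon S).map m ≫ a) (m.left.appTop.hom.comp θ) := by
  constructor
  · intro P h w e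
    rw [← hθ.1 P h (w ≫ m) (by rw [Functor.map_comp, Category.assoc]; exact e), Over.comp_left,
      Scheme.Hom.comp_appTop, CommRingCat.hom_comp, RingHom.comp_assoc]
  · intro P h w e
    rw [← hθ.2 P h (w ≫ m) (by rw [Functor.map_comp, Category.assoc]; exact e), Over.comp_left,
      Scheme.Hom.comp_appTop, CommRingCat.hom_comp, RingHom.comp_assoc]

variable {iY iZ c d}
variable (hcov : Set.range (Points.map iY) ∪ Set.range (Points.map iZ) = Set.univ)
  (hred : ∀ (W : Over S) (a : (yon S).obj W ⟶ U), RepWith @Etale a → IsReduced W.left)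

include hcov hred in
omit [IsAffine oY.left] [IsAffine oZ.left] [IsAffine TD.left] in
theorem ker_inf_eq_bot {W : Over S} {a : (yon S).obj W ⟶ U} (ha : RepWith @Etale a) {PY PZ : Over S}
    {wY : PY ⟶ W} {wZ : PZ ⟶ W} (hY : Points.ofPt a ⁻¹' Set.range (Points.map iY) = Set.range wY.left)
    (hZ : Points.ofPt a ⁻¹' Set.range (Points.map iZ) = Set.range wZ.left) :
    RingHom.ker wY.left.appTop.hom ⊓ RingHom.ker wZ.left.appTop.hom = ⊥ := by
  haveI := hred W a ha
  refine eq_bot_iff.2 fun x hx => (Submodule.mem_bot _).2 ((basicOpen_eq_bot_iff x).1 (eq_bot_iff.2 fun w hw => ?_))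
  have hP : ∀ {P : Over S} (g : P ⟶ W), g.left.appTop x = 0 → w ∉ Set.range g.left := by
    rintro P g hg ⟨v, rfl⟩
    have : v ∈ g.left ⁻¹ᵁ W.left.basicOpen x := hw
    rw [Scheme.preimage_basicOpen, show g.left.app ⊤ x = 0 from hg, Scheme.basicOpen_zero] at this
    exact this
  rcases hcov.ge (Set.mem_univ (Points.ofPt a w)) with h | h
  · exact absurd (hY.le h) (hP wY hx.1)
  · exact absurd (hZ.le h) (hP wZ hx.2)

variable (hY : RepWith @IsClosedImmersion iY) (hZ : RepWith @IsClosedImmersion iZ)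

include hcov hred hY hZ in
omit [IsAffine TD.left] in
theorem IsTheta.unique {W : Over S} [IsAffine W.left] {a : (yon S).obj W ⟶ U} (ha : RepWith @Etale a)
    {θ θ' : glueRing c d →+* Γ(W.left, ⊤)} (h : IsTheta iY iZ c d W a θ) (h' : IsTheta iY iZ c d W a θ') : θ = θ' := by
  obtain ⟨PY, fY, wY, sqY, -, -, -, rY⟩ := exists_piece hY ha
  obtain ⟨PZ, fZ, wZ, sqZ, -, -, -, rZ⟩ := exists_piece hZ ha
  refine RingHom.ext fun r => eq_of_sub_mem (ker_inf_eq_bot hcov hred ha rY rZ) ?_ ?_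
  · rw [RingHom.mem_ker, map_sub, sub_eq_zero]
    exact RingHom.congr_fun ((h.1 PY fY wY sqY.w).trans (h'.1 PY fY wY sqY.w).symm) r
  · rw [RingHom.mem_ker, map_sub, sub_eq_zero]
    exact RingHom.congr_fun ((h.2 PZ fZ wZ sqZ.w).trans (h'.2 PZ fZ wZ sqZ.w).symm) r

variable (sqD : IsPullback ((yon S).map c) ((yon S).map d) iY iZ)

include hcov hred hY hZ sqD in
theorem exists_theta {W : Over S} [IsAffine W.left] {a : (yon S).obj W ⟶ U} (ha : RepWith @Etale a) :
    ∃ θ, IsTheta iY iZ c d W a θ := by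
  obtain ⟨PY, fY, wY, sqY, cY, -, aY, rY⟩ := exists_piece hY ha
  obtain ⟨PZ, fZ, wZ, sqZ, cZ, -, aZ, rZ⟩ := exists_piece hZ ha
  obtain ⟨θ, hθY, hθZ⟩ := exists_glueHom (ker_inf_eq_bot hcov hred ha rY rZ) wY.left.appTop.hom wZ.left.appTop.hom
    rfl rfl (fY.left.appTop.hom.comp (prY c d)) (fZ.left.appTop.hom.comp (prZ c d)) fun r => by
      obtain ⟨x, hx⟩ := wY.left.app_surjective ⊤ (isAffineOpen_top _) (fY.left.appTop (prY c d r))
      obtain ⟨y, hy⟩ := wZ.left.app_surjective ⊤ (isAffineOpen_top _) (fZ.left.appTop (prZ c d r))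
      refine ⟨x, y, hx, hy, ?_⟩
      obtain ⟨Q, _, m, hm⟩ := exists_quot W.left
        (RingHom.ker wY.left.appTop.hom ⊔ RingHom.ker wZ.left.appTop.hom)
      obtain ⟨lY, hlY⟩ := exists_lift_affine wY.left m (le_sup_left.trans hm.ge)
      obtain ⟨lZ, hlZ⟩ := exists_lift_affine wZ.left m (le_sup_right.trans hm.ge)
      let oQ : Over S := Over.mk (m ≫ W.hom)
      let mQ : oQ ⟶ W := Over.homMk m rfl
      let gY : oQ ⟶ PY := Over.homMk lY (by rw [← Over.w wY, ← Category.assoc, hlY]; rfl)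
      let gZ : oQ ⟶ PZ := Over.homMk lZ (by rw [← Over.w wZ, ← Category.assoc, hlZ]; rfl)
      have eY : gY ≫ wY = mQ := Over.OverMorphism.ext hlY
      have eZ : gZ ≫ wZ = mQ := Over.OverMorphism.ext hlZ
      obtain ⟨k, hk₁, hk₂⟩ := exists_lift_sq sqD (gY ≫ fY) (gZ ≫ fZ) (by
        rw [Functor.map_comp, Category.assoc, sqY.w, ← Functor.map_comp_assoc, eY,
          Functor.map_comp, Category.assoc, sqZ.w, ← Functor.map_comp_assoc, eZ])
      have e : ∀ {P o : Over S} (g : oQ ⟶ P) (w : P ⟶ W) (f : P ⟶ o) (t : TD ⟶ o) (x : Γ(W.left, ⊤)) (z : Γ(o.left, ⊤)),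
          g ≫ w = mQ → k ≫ t = g ≫ f → w.left.appTop x = f.left.appTop z →
          m.appTop x = k.left.appTop (t.left.appTop z) := by
        intro P o g w f t x z hg ht hxz
        rw [show m = g.left ≫ w.left from (congrArg CommaMorphism.left hg).symm, Scheme.Hom.comp_appTop,
          CommRingCat.comp_apply, hxz, ← CommRingCat.comp_apply, ← Scheme.Hom.comp_appTop, ← Over.comp_left, ← ht,
          Over.comp_left, Scheme.Hom.comp_appTop, CommRingCat.comp_apply]
        rfl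
      rw [← hm, RingHom.mem_ker, map_sub, sub_eq_zero, e gY wY fY c x _ eY hk₁ hx, e gZ wZ fZ d y _ eZ hk₂ hy,
        appTop_prY_eq c d r]
  refine ⟨θ, fun P h w e => ?_, fun P h w e => ?_⟩
  · obtain ⟨l, hl₁, hl₂⟩ := exists_lift_sq sqY h w e
    rw [← hl₁, ← hl₂, Over.comp_left, Over.comp_left, Scheme.Hom.comp_appTop, Scheme.Hom.comp_appTop,
      CommRingCat.hom_comp, CommRingCat.hom_comp, RingHom.comp_assoc, hθY, RingHom.comp_assoc]
  · obtain ⟨l, hl₁, hl₂⟩ := exists_lift_sq sqZ h w e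
    rw [← hl₁, ← hl₂, Over.comp_left, Over.comp_left, Scheme.Hom.comp_appTop, Scheme.Hom.comp_appTop,
      CommRingCat.hom_comp, CommRingCat.hom_comp, RingHom.comp_assoc, hθZ, RingHom.comp_assoc]

end Groth.Agent.H12AlgSp.TwoClosed
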