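import Mathlib

/-!
Algebra of a ring with two ideals meeting in zero over a fibre product ring.
-/

set_option autoImplicit false
set_option backward.isDefEq.respectTransparency false
set_option linter.style.haveILetI false

universe u

namespace Groth.Agent.H12AlgSp.TwoClosed

variable {R e : Type u} [CommRing R] [CommRing e] [Algebra R e] {K L : Ideal e}

theorem eq_of_sub_mem (hKL : K ⊓ L = ⊥) {x y : e} (hK : x - y ∈ K) (hL : x - y ∈ L) : x = y :=
  sub_eq_zero.1 ((Submodule.mem_bot e).1 (hKL ▸ ⟨hK, hL⟩))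

/-- Gluing along two ideals. -/
theorem exists_glue {x y : e} (h : x - y ∈ K ⊔ L) : ∃ z : e, z - x ∈ K ∧ z - y ∈ L := by
  obtain ⟨a, ha, b, hb, hab⟩ := Submodule.mem_sup.1 h
  exact ⟨x - a, by simpa using K.neg_mem ha, by
    have : x - a - y = b := by rw [eq_sub_of_add_eq' hab]; ring
    rw [this]; exact hb⟩

/-- A homomorphism prescribed modulo two ideals meeting in zero. -/
theorem exists_glueHom {Q : Type u} [CommRing Q] {P : Type u} [CommRing P] {T : Type u} [CommRing T]
    (hKL : K ⊓ L = ⊥) (p : e →+* P) (q : e →+* Q) (hp : RingHom.ker p = K) (hq : RingHom.ker q = L)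
    (f : T →+* P) (g : T →+* Q) (h : ∀ t, ∃ x y, p x = f t ∧ q y = g t ∧ x - y ∈ K ⊔ L) :
    ∃ θ : T →+* e, p.comp θ = f ∧ q.comp θ = g := by
  have h' : ∀ t, ∃ z, p z = f t ∧ q z = g t := fun t => by
    obtain ⟨x, y, hx, hy, hxy⟩ := h t
    obtain ⟨z, hz₁, hz₂⟩ := exists_glue hxy
    rw [← hp, RingHom.mem_ker, map_sub, sub_eq_zero] at hz₁
    rw [← hq, RingHom.mem_ker, map_sub, sub_eq_zero] at hz₂
    exact ⟨z, hz₁.trans hx, hz₂.trans hy⟩
  choose θ hθ₁ hθ₂ using h'
  have hu : ∀ a b : e, p a = p b → q a = q b → a = b := fun a b ha hb =>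
    eq_of_sub_mem hKL (hp ▸ RingHom.mem_ker.2 (by rw [map_sub, ha, sub_self]))
      (hq ▸ RingHom.mem_ker.2 (by rw [map_sub, hb, sub_self]))
  refine ⟨{ toFun := θ, map_one' := ?_, map_mul' := ?_, map_zero' := ?_, map_add' := ?_ },
    RingHom.ext hθ₁, RingHom.ext hθ₂⟩
  · exact hu _ _ (by rw [hθ₁, map_one, map_one]) (by rw [hθ₂, map_one, map_one])
  · intro a b; exact hu _ _ (by simp only [map_mul, hθ₁]) (by simp only [map_mul, hθ₂])
  · exact hu _ _ (by rw [hθ₁, map_zero, map_zero]) (by rw [hθ₂, map_zero, map_zero])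
  · intro a b; exact hu _ _ (by simp only [map_add, hθ₁]) (by simp only [map_add, hθ₂])

/-- Finite type, checked modulo two ideals meeting in zero. -/
theorem finiteType_of_two (hKL : K ⊓ L = ⊥) [Algebra.FiniteType R (e ⧸ K)] [Algebra.FiniteType R (e ⧸ L)]
    (I : Set R) (hI : ∀ i ∈ I, algebraMap R e i ∈ K) (hK : K ≤ Ideal.span (algebraMap R e '' I) ⊔ L) :
    Algebra.FiniteType R e := by
  classical
  obtain ⟨s, hs⟩ := (inferInstance : Algebra.FiniteType R (e ⧸ K)).out
  obtain ⟨t, ht⟩ := (inferInstance : Algebra.FiniteType R (e ⧸ L)).out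
  choose l hl using Ideal.Quotient.mk_surjective (I := K)
  choose l' hl' using Ideal.Quotient.mk_surjective (I := L)
  let B : Subalgebra R e := Algebra.adjoin R ((s.image l ∪ t.image l' : Finset e) : Set e)
  have hBK : ∀ x, ∃ b ∈ B, x - b ∈ K := fun x => by
    have hle : Algebra.adjoin R (s : Set (e ⧸ K)) ≤ B.map (Ideal.Quotient.mkₐ R K) :=
      Algebra.adjoin_le fun z hz => ⟨l z, Algebra.subset_adjoin (by simp only [Finset.coe_union, Finset.coe_image]
                                                                    exact Or.inl ⟨z, hz, rfl⟩), hl z⟩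
    rw [hs] at hle
    obtain ⟨b, hb, hbx⟩ := hle (show Ideal.Quotient.mk K x ∈ (⊤ : Subalgebra R (e ⧸ K)) from trivial)
    exact ⟨b, hb, (Ideal.Quotient.eq).1 hbx.symm⟩
  have hBL : ∀ x, ∃ b ∈ B, x - b ∈ L := fun x => by
    have hle : Algebra.adjoin R (t : Set (e ⧸ L)) ≤ B.map (Ideal.Quotient.mkₐ R L) :=
      Algebra.adjoin_le fun z hz => ⟨l' z, Algebra.subset_adjoin (by simp only [Finset.coe_union, Finset.coe_image]
                                                                     exact Or.inr ⟨z, hz, rfl⟩), hl' z⟩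
    rw [ht] at hle
    obtain ⟨b, hb, hbx⟩ := hle (show Ideal.Quotient.mk L x ∈ (⊤ : Subalgebra R (e ⧸ L)) from trivial)
    exact ⟨b, hb, (Ideal.Quotient.eq).1 hbx.symm⟩
  have key : ∀ z ∈ Ideal.span (algebraMap R e '' I), ∃ b ∈ B, b ∈ K ∧ z - b ∈ L := by
    intro z hz
    induction hz using Submodule.span_induction with
    | mem z hz =>
      obtain ⟨i, hi, rfl⟩ := hz
      exact ⟨_, B.algebraMap_mem i, hI i hi, by simp⟩
    | zero => exact ⟨0, B.zero_mem, K.zero_mem, by simp⟩
    | add a b _ _ ha hb =>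
      obtain ⟨a', ha', hak, hal⟩ := ha
      obtain ⟨b', hb', hbk, hbl⟩ := hb
      exact ⟨a' + b', B.add_mem ha' hb', K.add_mem hak hbk, by
        rw [add_sub_add_comm]; exact L.add_mem hal hbl⟩
    | smul r a _ ha =>
      obtain ⟨a', ha', hak, hal⟩ := ha
      obtain ⟨r', hr', hrl⟩ := hBL r
      refine ⟨r' * a', B.mul_mem hr' ha', K.mul_mem_left _ hak, ?_⟩
      rw [smul_eq_mul, show r * a - r' * a' = (r - r') * a + r' * (a - a') by ring]
      exact L.add_mem (L.mul_mem_right _ hrl) (L.mul_mem_left _ hal)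
  refine ⟨⟨s.image l ∪ t.image l', eq_top_iff.2 fun x _ => ?_⟩⟩
  obtain ⟨b, hb, hxb⟩ := hBK x
  obtain ⟨z, hz, w, hw, hzw⟩ := Submodule.mem_sup.1 (hK hxb)
  obtain ⟨b', hb', hbk, hbl⟩ := key z hz
  have : x - b = b' := eq_of_sub_mem hKL (K.sub_mem hxb hbk) (by
    rw [← hzw, show z + w - b' = (z - b') + w by ring]; exact L.add_mem hbl hw)
  rw [show x = b + b' by rw [← this]; ring]
  exact B.add_mem hb hb'

/-- Quasi-finiteness, checked modulo two ideals meeting in zero. -/
theorem quasiFinite_of_two (hKL : K ⊓ L = ⊥) [Algebra.FiniteType R e] [Algebra.QuasiFinite R (e ⧸ K)]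
    [Algebra.QuasiFinite R (e ⧸ L)] : Algebra.QuasiFinite R e := by
  rw [Algebra.QuasiFinite.iff_finite_comap_preimage_singleton]
  intro p
  haveI : Algebra.FiniteType R (e ⧸ K) := Algebra.FiniteType.of_surjective (Ideal.Quotient.mkₐ R K) Ideal.Quotient.mk_surjective
  haveI : Algebra.FiniteType R (e ⧸ L) := Algebra.FiniteType.of_surjective (Ideal.Quotient.mkₐ R L) Ideal.Quotient.mk_surjective
  have h1 := (Algebra.QuasiFinite.iff_finite_comap_preimage_singleton (R := R) (S := e ⧸ K)).1 inferInstance p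
  have h2 := (Algebra.QuasiFinite.iff_finite_comap_preimage_singleton (R := R) (S := e ⧸ L)).1 inferInstance p
  refine ((h1.image (PrimeSpectrum.comap (Ideal.Quotient.mk K))).union
    (h2.image (PrimeSpectrum.comap (Ideal.Quotient.mk L)))).subset fun q hq => ?_
  have hle : K * L ≤ q.asIdeal := (Ideal.mul_le_inf.trans hKL.le).trans bot_le
  rcases q.isPrime.mul_le.1 hle with h | h
  · refine Or.inl ?_
    obtain ⟨q', rfl⟩ : q ∈ Set.range (PrimeSpectrum.comap (Ideal.Quotient.mk K)) := by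
      rw [range_comap_of_surjective _ _ Ideal.Quotient.mk_surjective, Ideal.mk_ker]
      exact fun x hx => h hx
    exact ⟨q', by rw [Set.mem_preimage, Set.mem_singleton_iff] at hq ⊢; rw [← hq]; exact rfl, rfl⟩
  · refine Or.inr ?_
    obtain ⟨q', rfl⟩ : q ∈ Set.range (PrimeSpectrum.comap (Ideal.Quotient.mk L)) := by
      rw [range_comap_of_surjective _ _ Ideal.Quotient.mk_surjective, Ideal.mk_ker]
      exact fun x hx => h hx
    exact ⟨q', by rw [Set.mem_preimage, Set.mem_singleton_iff] at hq ⊢; rw [← hq]; exact rfl, rfl⟩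

/-- A quotient which is quasi-finite of finite type over a quotient of the base. -/
theorem piece_props {A P : Type u} [CommRing A] [CommRing P] (w : e →+* P) (hw : Function.Surjective w) (pr : R →+* A)
    (hpr : Function.Surjective pr) (f : A →+* P) (hft : f.FiniteType) (hqf : f.QuasiFinite)
    (h : w.comp (algebraMap R e) = f.comp pr) :
    Algebra.FiniteType R (e ⧸ RingHom.ker w) ∧ Algebra.QuasiFinite R (e ⧸ RingHom.ker w) := by
  let φ : (e ⧸ RingHom.ker w) ≃+* P := RingHom.quotientKerEquivOfSurjective hw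
  letI : Algebra R P := (f.comp pr).toAlgebra
  haveI h1 : Algebra.FiniteType R P := hft.comp (RingHom.FiniteType.of_surjective pr hpr)
  haveI h2 : Algebra.QuasiFinite R P :=
    RingHom.QuasiFinite.stableUnderComposition _ _ (RingHom.QuasiFinite.of_finite (RingHom.Finite.of_surjective pr hpr)) hqf
  let eq : (e ⧸ RingHom.ker w) ≃ₐ[R] P := AlgEquiv.ofRingEquiv (f := φ) fun r => RingHom.congr_fun h r
  exact ⟨Algebra.FiniteType.equiv h1 eq.symm,
    Algebra.QuasiFinite.of_surjective_algHom eq.symm.toAlgHom eq.symm.surjective⟩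

end Groth.Agent.H12AlgSp.TwoClosed
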