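import Groth.Agent.H12AlgSp.TwoClosed.Pieces
import Groth.Agent.H12AlgSp.LQFScheme2
import Groth.Agent.H12AlgSp.Bootstrap
import Groth.Agent.H12AlgSp.LimitQuotient
import Groth.Agent.H13AlgSp.InductionApps

/-!
A reduced space covered by two affine closed subspaces is a scheme.
-/

set_option autoImplicit false
set_option backward.isDefEq.respectTransparency false
set_option linter.style.haveILetI false

universe u

open CategoryTheory CategoryTheory.Limits AlgebraicGeometry Opposite
open AlgSp Groth.Agent.H13AlgSp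

namespace Groth.Agent.H12AlgSp.TwoClosed

theorem closedImmersion_pullbackMap {X X' Y Y' B B' : Scheme.{u}} (f : X ⟶ B) (g : Y ⟶ B) (f' : X' ⟶ B') (g' : Y' ⟶ B')
    (i₁ : X ⟶ X') (i₂ : Y ⟶ Y') (j : B ⟶ B') [Mono j] [IsClosedImmersion i₁] [IsClosedImmersion i₂]
    (e₁ : f ≫ j = i₁ ≫ f') (e₂ : g ≫ j = i₂ ≫ g') :
    IsClosedImmersion (pullback.map f g f' g' i₁ i₂ j e₁ e₂) := by
  let a := pullback.map f g (f ≫ j) (g ≫ j) (𝟙 _) (𝟙 _) j (Category.id_comp _).symm (Category.id_comp _).symm
  haveI : IsIso a := by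
    refine ⟨⟨pullback.lift (pullback.fst _ _) (pullback.snd _ _)
      ((cancel_mono j).1 (by simpa only [Category.assoc] using pullback.condition)), ?_, ?_⟩⟩ <;>
      (apply pullback.hom_ext <;> simp [a])
  have h := MorphismProperty.pullbackMap (P := @IsClosedImmersion) (f := f ≫ j) (g := g ≫ j) (f' := f') (g' := g')
    (i₁ := i₁) (i₂ := i₂) ‹_› ‹_› e₁ e₂
  rw [show pullback.map f g f' g' i₁ i₂ j e₁ e₂ = a ≫ pullback.map (f ≫ j) (g ≫ j) f' g' i₁ i₂ (𝟙 _)
    ((Category.comp_id _).trans e₁) ((Category.comp_id _).trans e₂) by apply pullback.hom_ext <;> simp [a]]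
  exact (MorphismProperty.cancel_left_of_respectsIso @IsClosedImmersion a _).2 h

theorem toSpecΓ_specMap_appTop {T : Scheme.{u}} {A : CommRingCat.{u}} (m : T ⟶ Spec A) :
    T.toSpecΓ ≫ Spec.map ((Scheme.ΓSpecIso A).inv ≫ m.appTop) = m := by
  rw [Spec.map_comp, ← Scheme.toSpecΓ_naturality_assoc, toSpecΓ_SpecMap_ΓSpecIso_inv, Category.comp_id]

variable {S : Scheme.{u}} {U : Sp S} {oY oZ TD : Over S} [IsAffine oY.left] [IsAffine oZ.left] [IsAffine TD.left]
  {iY : (yon S).obj oY ⟶ U} {iZ : (yon S).obj oZ ⟶ U} {c : TD ⟶ oY} {d : TD ⟶ oZ}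
  (hY : RepWith @IsClosedImmersion iY) (hZ : RepWith @IsClosedImmersion iZ)
  (hcov : Set.range (Points.map iY) ∪ Set.range (Points.map iZ) = Set.univ)
  (hred : ∀ (W : Over S) (a : (yon S).obj W ⟶ U), RepWith @Etale a → IsReduced W.left)

/-- A morphism whose diagonal is a closed immersion on a chart is separated. -/
theorem isSeparatedMor_of_chart {T W P : Over S} {q : U ⟶ (yon S).obj T} (hU : IsAlgSpace U)
    {p : (yon S).obj W ⟶ U} (hp : RepWith @Etale p) (hps : RepWith @Surjective p) {h : W ⟶ T}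
    (hq : p ≫ q = (yon S).map h) {t s : P ⟶ W} (sq : IsPullback ((yon S).map t) ((yon S).map s) p p)
    (hst : t ≫ h = s ≫ h) (hci : IsClosedImmersion (pullback.lift t s hst : P ⟶ pullback h h).left) :
    IsSeparatedMor q := by
  let F := pullback h h
  let δ : P ⟶ F := pullback.lift t s hst
  haveI : IsClosedImmersion δ.left := hci
  have hmon : Mono δ := ⟨fun a b e => by
    apply (yon S).map_injective
    apply sq.hom_ext
    · rw [← Functor.map_comp, ← Functor.map_comp]
      congr 1
      simpa [δ, Category.assoc] using congrArg (· ≫ pullback.fst h h) e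
    · rw [← Functor.map_comp, ← Functor.map_comp]
      congr 1
      simpa [δ, Category.assoc] using congrArg (· ≫ pullback.snd h h) e⟩
  let cov : (yon S).obj F ⟶ pullback q q :=
    (PreservesPullback.iso (yon S) h h).hom ≫
      pullback.map ((yon S).map h) ((yon S).map h) q q p p (𝟙 _) ((Category.comp_id _).trans hq.symm)
        ((Category.comp_id _).trans hq.symm)
  have hce : RepWith @Etale cov := repWith_comp (repWith_of_isIso _)
    (MorphismProperty.pullbackMap (P := RepWith @Etale) hp hp hq.symm hq.symm)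
  have hcs : RepWith @Surjective cov := repWith_comp (repWith_of_isIso _)
    (MorphismProperty.pullbackMap (P := RepWith @Surjective) hps hps hq.symm hq.symm)
  have c₁ : cov ≫ pullback.fst q q = (yon S).map (pullback.fst h h) ≫ p := by
    simp [cov]
  have c₂ : cov ≫ pullback.snd q q = (yon S).map (pullback.snd h h) ≫ p := by
    simp [cov]
  have d₁ : δ ≫ pullback.fst h h = t := pullback.lift_fst _ _ _
  have d₂ : δ ≫ pullback.snd h h = s := pullback.lift_snd _ _ _
  have w : ((yon S).map t ≫ p) ≫ pullback.diagonal q = (yon S).map δ ≫ cov := by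
    apply pullback.hom_ext
    · simp only [Category.assoc, pullback.diagonal_fst, Category.comp_id, c₁, ← Functor.map_comp_assoc, d₁]
    · simp only [Category.assoc, pullback.diagonal_snd, Category.comp_id, c₂, ← Functor.map_comp_assoc, d₂, sq.w]
  haveI : Mono δ := hmon
  have hlift : ∀ cn : PullbackCone (pullback.diagonal q) cov, ∃ l, l ≫ (yon S).map δ = cn.snd := fun cn => by
    have e₁ := congrArg (· ≫ pullback.fst q q) cn.condition
    have e₂ := congrArg (· ≫ pullback.snd q q) cn.condition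
    simp only [Category.assoc, pullback.diagonal_fst, pullback.diagonal_snd, Category.comp_id, c₁, c₂] at e₁ e₂
    obtain ⟨l, hl₁, hl₂⟩ := sq.exists_lift (cn.snd ≫ (yon S).map (pullback.fst h h))
      (cn.snd ≫ (yon S).map (pullback.snd h h)) (by rw [Category.assoc, Category.assoc, ← e₁, ← e₂])
    refine ⟨l, ?_⟩
    apply ((IsPullback.of_hasPullback h h).map (yon S)).hom_ext
    · rw [Category.assoc, ← Functor.map_comp, d₁, hl₁]
    · rw [Category.assoc, ← Functor.map_comp, d₂, hl₂]
  choose l hl using hlift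
  have sqδ : IsPullback ((yon S).map t ≫ p) ((yon S).map δ) (pullback.diagonal q) cov := by
    refine ⟨⟨w⟩, ⟨PullbackCone.IsLimit.mk w l (fun cn => ?_) hl (fun cn m _ hm => ?_)⟩⟩
    · have e₁ := congrArg (· ≫ pullback.fst q q) cn.condition
      simp only [Category.assoc, pullback.diagonal_fst, Category.comp_id, c₁] at e₁
      rw [e₁, ← Category.assoc (l cn), ← d₁, Functor.map_comp, ← Category.assoc (l cn), hl, Category.assoc]
    · rw [← cancel_mono ((yon S).map δ), hl, hm]
  exact repWith_of_chart (representable_diagonal q hU.diag) hce hcs sqδ ‹IsClosedImmersion δ.left›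

include hcov hred in
/-- The affine target lies over the base. -/
theorem exists_structure [IsClosedImmersion c.left] [IsClosedImmersion d.left]
    (hY : RepWith @IsClosedImmersion iY) (hZ : RepWith @IsClosedImmersion iZ) {V0 : S.Opens} (hV0 : IsAffineOpen V0)
    (hYV : ∀ y, oY.hom y ∈ V0) (hZV : ∀ z, oZ.hom z ∈ V0) :
    ∃ γR : Γ(S, V0) →+* glueRing c d, ∀ {W : Over S} [IsAffine W.left] {a : (yon S).obj W ⟶ U} (_ : RepWith @Etale a)
      (θ : glueRing c d →+* Γ(W.left, ⊤)), IsTheta iY iZ c d W a θ →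
      (W.left.toSpecΓ ≫ Spec.map (CommRingCat.ofHom θ)) ≫ Spec.map (CommRingCat.ofHom γR) ≫ hV0.fromSpec = W.hom := by
  let R := glueRing c d
  have hrY : Set.range oY.hom ⊆ Set.range hV0.fromSpec := by rw [hV0.range_fromSpec]; exact Set.range_subset_iff.2 hYV
  have hrZ : Set.range oZ.hom ⊆ Set.range hV0.fromSpec := by rw [hV0.range_fromSpec]; exact Set.range_subset_iff.2 hZV
  let mY := IsOpenImmersion.lift hV0.fromSpec oY.hom hrY
  let mZ := IsOpenImmersion.lift hV0.fromSpec oZ.hom hrZ
  have hmY : mY ≫ hV0.fromSpec = oY.hom := IsOpenImmersion.lift_fac _ _ _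
  have hmZ : mZ ≫ hV0.fromSpec = oZ.hom := IsOpenImmersion.lift_fac _ _ _
  have hmD : c.left ≫ mY = d.left ≫ mZ := by
    rw [← cancel_mono hV0.fromSpec, Category.assoc, Category.assoc, hmY, hmZ, Over.w c, Over.w d]
  let γY : Γ(S, V0) →+* Γ(oY.left, ⊤) := ((Scheme.ΓSpecIso _).inv ≫ mY.appTop).hom
  let γZ : Γ(S, V0) →+* Γ(oZ.left, ⊤) := ((Scheme.ΓSpecIso _).inv ≫ mZ.appTop).hom
  let γR : Γ(S, V0) →+* R := (γY.prod γZ).codRestrict _ fun x => by
    have h := congrArg (fun f => ((Scheme.ΓSpecIso _).inv ≫ f.appTop).hom x) hmD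
    simp only [Scheme.Hom.comp_appTop, ← Category.assoc] at h
    exact h
  refine ⟨γR, fun {W} _ {a} ha θ hθ => ?_⟩
  obtain ⟨PY, fY, wY, sqY, -, -, -, rY⟩ := exists_piece hY ha
  obtain ⟨PZ, fZ, wZ, sqZ, -, -, -, rZ⟩ := exists_piece hZ ha
  have hr : Set.range W.hom ⊆ Set.range hV0.fromSpec := by
    rw [hV0.range_fromSpec]
    rintro _ ⟨w, rfl⟩
    rcases hcov.ge (Set.mem_univ (Points.ofPt a w)) with h | h
    · obtain ⟨v, rfl⟩ := rY.le h
      rw [← Scheme.Hom.comp_apply, Over.w wY, ← Over.w fY, Scheme.Hom.comp_apply]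
      exact hYV _
    · obtain ⟨v, rfl⟩ := rZ.le h
      rw [← Scheme.Hom.comp_apply, Over.w wZ, ← Over.w fZ, Scheme.Hom.comp_apply]
      exact hZV _
  let ω := IsOpenImmersion.lift hV0.fromSpec W.hom hr
  have hω : ω ≫ hV0.fromSpec = W.hom := IsOpenImmersion.lift_fac _ _ _
  have hωY : wY.left ≫ ω = fY.left ≫ mY := by
    rw [← cancel_mono hV0.fromSpec, Category.assoc, Category.assoc, hω, hmY, Over.w wY, Over.w fY]
  have hωZ : wZ.left ≫ ω = fZ.left ≫ mZ := by
    rw [← cancel_mono hV0.fromSpec, Category.assoc, Category.assoc, hω, hmZ, Over.w wZ, Over.w fZ]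
  have hη : θ.comp γR = ((Scheme.ΓSpecIso _).inv ≫ ω.appTop).hom := by
    refine RingHom.ext fun x => eq_of_sub_mem (ker_inf_eq_bot hcov hred ha rY rZ) ?_ ?_
    · rw [RingHom.mem_ker, map_sub, sub_eq_zero]
      refine (RingHom.congr_fun (hθ.1 PY fY wY sqY.w) (γR x)).trans ?_
      have h := congrArg (fun f => ((Scheme.ΓSpecIso _).inv ≫ f.appTop).hom x) hωY
      simp only [Scheme.Hom.comp_appTop, ← Category.assoc] at h
      exact h.symm
    · rw [RingHom.mem_ker, map_sub, sub_eq_zero]
      refine (RingHom.congr_fun (hθ.2 PZ fZ wZ sqZ.w) (γR x)).trans ?_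
      have h := congrArg (fun f => ((Scheme.ΓSpecIso _).inv ≫ f.appTop).hom x) hωZ
      simp only [Scheme.Hom.comp_appTop, ← Category.assoc] at h
      exact h.symm
  refine Eq.trans ?_ hω
  rw [Category.assoc, ← Spec.map_comp_assoc, ← CommRingCat.ofHom_comp, hη, CommRingCat.ofHom_hom, ← Category.assoc]
  exact congrArg (· ≫ hV0.fromSpec) (toSpecΓ_specMap_appTop ω)

include hY hZ hcov hred in
/-- The two composites from the kernel pair to the affine target agree. -/
theorem theta_coequalizes {T W P : Over S} [IsAffine W.left] {p : (yon S).obj W ⟶ U} (hp : RepWith @Etale p)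
    {θ : glueRing c d →+* Γ(W.left, ⊤)} (hθ : IsTheta iY iZ c d W p θ) {t s : P ⟶ W}
    (sq : IsPullback ((yon S).map t) ((yon S).map s) p p) (g : Spec (CommRingCat.of (glueRing c d)) ⟶ T.left)
    (h : W ⟶ T) (hh : h.left = (W.left.toSpecΓ ≫ Spec.map (CommRingCat.ofHom θ)) ≫ g) : t ≫ h = s ≫ h := by
  refine Over.OverMorphism.ext (Scheme.Cover.hom_ext P.left.affineCover _ _ fun j => ?_)
  let Q : Over S := Over.mk (P.left.affineCover.f j ≫ P.hom)
  haveI : IsAffine Q.left := inferInstanceAs (IsAffine (P.left.affineCover.X j))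
  let ι : Q ⟶ P := Over.homMk (P.left.affineCover.f j) rfl
  have hQ : RepWith @Etale ((yon S).map (ι ≫ t) ≫ p) := by
    rw [Functor.map_comp, Category.assoc]
    exact repWith_comp ((repWith_yon_map_iff _ _).2 (show Etale ι.left from
      haveI : IsOpenImmersion ι.left := inferInstanceAs (IsOpenImmersion (P.left.affineCover.f j))
      inferInstance)) (repWith_comp ((repWith_yon_map_iff _ _).2 (hp.2 _ _ _ sq.flip)) hp)
  have h₁ := IsTheta.comp iY iZ c d hθ (ι ≫ t)
  have h₂ := IsTheta.comp iY iZ c d hθ (ι ≫ s)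
  have e : (yon S).map (ι ≫ s) ≫ p = (yon S).map (ι ≫ t) ≫ p := by
    rw [Functor.map_comp, Functor.map_comp, Category.assoc, Category.assoc, sq.w]
  rw [e] at h₂
  have he := h₁.unique hcov hred hY hZ hQ h₂
  have key : (ι ≫ t).left ≫ W.left.toSpecΓ ≫ Spec.map (CommRingCat.ofHom θ) =
      (ι ≫ s).left ≫ W.left.toSpecΓ ≫ Spec.map (CommRingCat.ofHom θ) := by
    rw [Scheme.toSpecΓ_naturality_assoc, Scheme.toSpecΓ_naturality_assoc, ← Spec.map_comp, ← Spec.map_comp]
    congr 2
    exact CommRingCat.hom_ext he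
  have key' := congrArg (· ≫ g) key
  simp only [Over.comp_left, hh, Category.assoc] at key' ⊢
  exact key'

include hY hZ hcov hred in
/-- The glued functions make a chart quasi-finite of finite type. -/
theorem theta_finiteType_quasiFinite (sqD : IsPullback ((yon S).map c) ((yon S).map d) iY iZ)
    [IsClosedImmersion c.left] [IsClosedImmersion d.left] {W : Over S} [IsAffine W.left] {p : (yon S).obj W ⟶ U}
    (hp : RepWith @Etale p) {θ : glueRing c d →+* Γ(W.left, ⊤)} (hθ : IsTheta iY iZ c d W p θ) :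
    θ.FiniteType ∧ θ.QuasiFinite := by
  let R := glueRing c d
  obtain ⟨PY, fY, wY, sqY, hcY, heY, haY, rY⟩ := exists_piece hY hp
  obtain ⟨PZ, fZ, wZ, sqZ, hcZ, heZ, haZ, rZ⟩ := exists_piece hZ hp
  let e := Γ(W.left, ⊤)
  let K := RingHom.ker wY.left.appTop.hom
  let L := RingHom.ker wZ.left.appTop.hom
  have hKL : K ⊓ L = ⊥ := ker_inf_eq_bot hcov hred hp rY rZ
  letI : Algebra R e := θ.toAlgebra
  have piece : ∀ {o Po : Over S} [IsAffine o.left] [IsAffine Po.left] (f : Po ⟶ o) (w : Po ⟶ W) (pr : R →+* Γ(o.left, ⊤)),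
      Etale f.left → IsClosedImmersion w.left → Function.Surjective pr →
      w.left.appTop.hom.comp θ = f.left.appTop.hom.comp pr →
      Algebra.FiniteType R (e ⧸ RingHom.ker w.left.appTop.hom) ∧
        Algebra.QuasiFinite R (e ⧸ RingHom.ker w.left.appTop.hom) := by
    intro o Po _ _ f w pr hf hw hpr heq
    haveI := lqf_of_etale f.left
    exact piece_props (R := R) (e := e) w.left.appTop.hom (w.left.app_surjective ⊤ (isAffineOpen_top _)) pr hpr
      f.left.appTop.hom (HasRingHomProperty.appTop (P := @LocallyOfFiniteType) f.left inferInstance)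
      (HasRingHomProperty.appTop (P := @LocallyQuasiFinite) f.left inferInstance) heq
  obtain ⟨hK1, hK2⟩ := piece fY wY (prY c d) heY hcY (surjective_prY c d) (hθ.1 PY fY wY sqY.w)
  obtain ⟨hL1, hL2⟩ := piece fZ wZ (prZ c d) heZ hcZ (surjective_prZ c d) (hθ.2 PZ fZ wZ sqZ.w)
  let I : Set R := {r | prY c d r = 0}
  have hI : ∀ i ∈ I, algebraMap R e i ∈ K := fun i hi => by
    change wY.left.appTop.hom (θ i) = 0
    have h0 : prY c d i = 0 := hi
    exact (RingHom.congr_fun (hθ.1 PY fY wY sqY.w) i).trans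
      ((congrArg fY.left.appTop.hom h0).trans (map_zero _))
  have hK : K ≤ Ideal.span (algebraMap R e '' I) ⊔ L := by
    obtain ⟨Q, _, m, hm⟩ := exists_quot W.left (Ideal.span (algebraMap R e '' I) ⊔ L)
    obtain ⟨lZ, hlZ⟩ := exists_lift_affine wZ.left m (le_sup_right.trans hm.ge)
    obtain ⟨k, hk⟩ := exists_lift_affine d.left (lZ ≫ fZ.left) fun z hz => by
      rw [RingHom.mem_ker] at hz ⊢
      let r : R := ⟨(0, z), by
        change c.left.appTop.hom 0 = d.left.appTop.hom z
        rw [map_zero, hz]⟩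
      have h1 : m.appTop.hom (algebraMap R e r) = 0 :=
        RingHom.mem_ker.1 (hm.ge (Ideal.mem_sup_left (Ideal.subset_span ⟨r, rfl, rfl⟩)))
      rw [← hlZ, Scheme.Hom.comp_appTop] at h1
      rw [Scheme.Hom.comp_appTop]
      exact (congrArg lZ.appTop.hom (RingHom.congr_fun (hθ.2 PZ fZ wZ sqZ.w) r).symm).trans h1
    let oQ : Over S := Over.mk (m ≫ W.hom)
    let mQ : oQ ⟶ W := Over.homMk m rfl
    let gZ : oQ ⟶ PZ := Over.homMk lZ (by rw [← Over.w wZ, ← Category.assoc, hlZ]; rfl)
    let kQ : oQ ⟶ TD := Over.homMk k (by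
      rw [← Over.w d, ← Category.assoc, hk, Category.assoc, Over.w fZ, ← Over.w wZ, ← Category.assoc, hlZ]; rfl)
    have e1 : gZ ≫ wZ = mQ := Over.OverMorphism.ext hlZ
    have e2 : kQ ≫ d = gZ ≫ fZ := Over.OverMorphism.ext hk
    obtain ⟨l, -, hl⟩ := exists_lift_sq sqY (kQ ≫ c) mQ (by
      rw [Functor.map_comp, Category.assoc, sqD.w, ← Functor.map_comp_assoc, e2, Functor.map_comp, Category.assoc,
        sqZ.w, ← Functor.map_comp_assoc, e1])
    intro x hx
    rw [← hm, RingHom.mem_ker]
    rw [show m = l.left ≫ wY.left from (congrArg CommaMorphism.left hl).symm, Scheme.Hom.comp_appTop]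
    exact (congrArg l.left.appTop.hom (RingHom.mem_ker.1 hx)).trans (map_zero _)
  haveI := hK1; haveI := hK2; haveI := hL1; haveI := hL2
  haveI hft : Algebra.FiniteType R e := finiteType_of_two hKL I hI hK
  haveI hqf : Algebra.QuasiFinite R e := quasiFinite_of_two hKL
  exact ⟨hft, hqf⟩

include hY hZ hcov in
/-- The diagonal on the chart is a closed immersion. -/
theorem theta_diagonal_closedImmersion [IsClosedImmersion c.left] [IsClosedImmersion d.left]
    {T W P : Over S} [IsAffine W.left] {p : (yon S).obj W ⟶ U} (hp : RepWith @Etale p)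
    {θ : glueRing c d →+* Γ(W.left, ⊤)} (hθ : IsTheta iY iZ c d W p θ) {t s : P ⟶ W}
    (sq : IsPullback ((yon S).map t) ((yon S).map s) p p) (g₀ : Spec (CommRingCat.of (glueRing c d)) ⟶ T.left) [Mono g₀]
    (h : W ⟶ T) (hh : h.left = (W.left.toSpecΓ ≫ Spec.map (CommRingCat.ofHom θ)) ≫ g₀) (hst : t ≫ h = s ≫ h) :
    IsClosedImmersion (pullback.lift t s hst : P ⟶ pullback h h).left := by
  let R := glueRing c d
  obtain ⟨PY, fY, wY, sqY, hcY, heY, haY, rY⟩ := exists_piece hY hp
  obtain ⟨PZ, fZ, wZ, sqZ, hcZ, heZ, haZ, rZ⟩ := exists_piece hZ hp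
  let F := pullback h h
  let δ : P ⟶ F := pullback.lift t s hst
  let qY := pullback fY fY
  let qZ := pullback fZ fZ
  have hmon : Mono δ := ⟨fun a b e => by
    apply (yon S).map_injective
    apply sq.hom_ext
    · rw [← Functor.map_comp, ← Functor.map_comp]
      congr 1
      simpa [δ, Category.assoc] using congrArg (· ≫ pullback.fst h h) e
    · rw [← Functor.map_comp, ← Functor.map_comp]
      congr 1
      simpa [δ, Category.assoc] using congrArg (· ≫ pullback.snd h h) e⟩
  have hsepY : ∀ {o Po : Over S} [IsAffine o.left] (i : (yon S).obj o ⟶ U) (hi : RepWith @IsClosedImmersion i)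
      (f : Po ⟶ o) (w : Po ⟶ W) (sqo : IsPullback ((yon S).map f) ((yon S).map w) i p),
      IsClosedImmersion w.left → ∀ (pr : R →+* Γ(o.left, ⊤)), Function.Surjective pr →
      w.left.appTop.hom.comp θ = f.left.appTop.hom.comp pr →
      ∃ g : pullback f f ⟶ P, IsClosedImmersion (g ≫ δ).left ∧
        ∀ z : P.left, Points.ofPt ((yon S).map t ≫ p) z ∈ Set.range (Points.map i) → z ∈ Set.range g.left := by
    intro o Po _ i hi f w sqo hw pr hpr heq
    obtain ⟨g, hg₁, hg₂⟩ := exists_lift_sq sq (pullback.fst f f ≫ w) (pullback.snd f f ≫ w) (by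
      rw [Functor.map_comp, Functor.map_comp, Category.assoc, Category.assoc, ← sqo.w, ← Functor.map_comp_assoc,
        ← Functor.map_comp_assoc, pullback.condition])
    let jo : o.left ⟶ T.left := (o.left.toSpecΓ ≫ Spec.map (CommRingCat.ofHom pr)) ≫ g₀
    haveI : IsClosedImmersion (Spec.map (CommRingCat.ofHom pr)) := IsClosedImmersion.spec_of_surjective _ hpr
    haveI : Mono jo := inferInstanceAs (Mono ((_ ≫ _) ≫ _))
    have hj : f.left ≫ jo = w.left ≫ h.left := by
      rw [hh]
      change f.left ≫ (o.left.toSpecΓ ≫ _) ≫ g₀ = w.left ≫ (W.left.toSpecΓ ≫ _) ≫ g₀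
      rw [← Category.assoc, ← Category.assoc w.left]
      congr 1
      rw [Scheme.toSpecΓ_naturality_assoc, Scheme.toSpecΓ_naturality_assoc, ← Spec.map_comp, ← Spec.map_comp]
      congr 2
      exact CommRingCat.hom_ext heq.symm
    refine ⟨g, ?_, fun z hz => ?_⟩
    · haveI := closedImmersion_pullbackMap f.left f.left h.left h.left w.left w.left jo hj hj
      have e : (g ≫ δ).left = (PreservesPullback.iso (Over.forget S) f f).hom ≫
          pullback.map f.left f.left h.left h.left w.left w.left jo hj hj ≫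
            (PreservesPullback.iso (Over.forget S) h h).inv := by
        rw [← cancel_mono (PreservesPullback.iso (Over.forget S) h h).hom, Category.assoc, Category.assoc,
          Iso.inv_hom_id, Category.comp_id]
        apply pullback.hom_ext
        · rw [Category.assoc, PreservesPullback.iso_hom_fst, Category.assoc]
          refine Eq.trans ?_ (congrArg ((PreservesPullback.iso (Over.forget S) f f).hom ≫ ·)
            (pullback.lift_fst (f := h.left) (g := h.left) (pullback.fst f.left f.left ≫ w.left)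
              (pullback.snd f.left f.left ≫ w.left) _).symm)
          refine Eq.trans ?_ ((Category.assoc _ _ _).trans rfl)
          refine Eq.trans ?_ (congrArg (· ≫ w.left) (PreservesPullback.iso_hom_fst (Over.forget S) f f).symm)
          change (g ≫ δ).left ≫ (pullback.fst h h).left = (pullback.fst f f).left ≫ w.left
          rw [← Over.comp_left, ← Over.comp_left, Category.assoc, pullback.lift_fst, hg₁]
        · rw [Category.assoc, PreservesPullback.iso_hom_snd, Category.assoc]
          refine Eq.trans ?_ (congrArg ((PreservesPullback.iso (Over.forget S) f f).hom ≫ ·)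
            (pullback.lift_snd (f := h.left) (g := h.left) (pullback.fst f.left f.left ≫ w.left)
              (pullback.snd f.left f.left ≫ w.left) _).symm)
          refine Eq.trans ?_ ((Category.assoc _ _ _).trans rfl)
          refine Eq.trans ?_ (congrArg (· ≫ w.left) (PreservesPullback.iso_hom_snd (Over.forget S) f f).symm)
          change (g ≫ δ).left ≫ (pullback.snd h h).left = (pullback.snd f f).left ≫ w.left
          rw [← Over.comp_left, ← Over.comp_left, Category.assoc, pullback.lift_snd, hg₂]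
      rw [e]
      infer_instance
    · obtain ⟨PP, wP, gP', sqP⟩ := hi.1 ((yon S).map t ≫ p)
      obtain ⟨gP, rfl⟩ := (yon S).map_surjective gP'
      obtain ⟨v, rfl⟩ := (preimage_ofPt_range sqP).le hz
      obtain ⟨l₁, hl₁, hl₁'⟩ := exists_lift_sq sqo gP (wP ≫ t) (by
        rw [sqP.w, Functor.map_comp, Category.assoc])
      obtain ⟨l₂, hl₂, hl₂'⟩ := exists_lift_sq sqo gP (wP ≫ s) (by
        rw [sqP.w, Functor.map_comp, Category.assoc, sq.w])
      have e : pullback.lift l₁ l₂ (hl₁.trans hl₂.symm) ≫ g = wP := by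
        apply (yon S).map_injective
        apply sq.hom_ext
        · rw [← Functor.map_comp, ← Functor.map_comp, Category.assoc, hg₁, pullback.lift_fst_assoc, hl₁']
        · rw [← Functor.map_comp, ← Functor.map_comp, Category.assoc, hg₂, pullback.lift_snd_assoc, hl₂']
      exact ⟨(pullback.lift l₁ l₂ (hl₁.trans hl₂.symm)).left v, by
        rw [← Scheme.Hom.comp_apply, ← Over.comp_left, e]⟩
  obtain ⟨gY, hgY, hgY'⟩ := hsepY iY hY fY wY sqY hcY (prY c d) (surjective_prY c d) (hθ.1 PY fY wY sqY.w)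
  obtain ⟨gZ, hgZ, hgZ'⟩ := hsepY iZ hZ fZ wZ sqZ hcZ (prZ c d) (surjective_prZ c d) (hθ.2 PZ fZ wZ sqZ.w)
  haveI : IsClosedImmersion δ.left := by
    let g := coprod.desc gY.left gZ.left
    haveI : Surjective g := ⟨fun z => by
      rcases hcov.ge (Set.mem_univ (Points.ofPt ((yon S).map t ≫ p) z)) with hz | hz
      · obtain ⟨v, rfl⟩ := hgY' z hz
        exact ⟨(coprod.inl : (pullback fY fY).left ⟶ _) v, by rw [← Scheme.Hom.comp_apply, coprod.inl_desc]⟩
      · obtain ⟨v, rfl⟩ := hgZ' z hz
        exact ⟨(coprod.inr : (pullback fZ fZ).left ⟶ _) v, by rw [← Scheme.Hom.comp_apply, coprod.inr_desc]⟩⟩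
    haveI : IsClosedImmersion (gY.left ≫ δ.left) := hgY
    haveI : IsClosedImmersion (gZ.left ≫ δ.left) := hgZ
    haveI : UniversallyClosed (g ≫ δ.left) := by
      rw [coprod.desc_comp]
      haveI : IsFinite (coprod.desc (gY.left ≫ δ.left) (gZ.left ≫ δ.left)) := inferInstance
      infer_instance
    haveI : UniversallyClosed δ.left := UniversallyClosed.of_comp_surjective g _
    haveI : Etale t.left := hp.2 _ _ _ sq.flip
    haveI : LocallyOfFiniteType (δ.left ≫ (pullback.fst h h).left) := by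
      rw [← Over.comp_left, pullback.lift_fst]; infer_instance
    haveI : LocallyOfFiniteType δ.left := locallyOfFiniteType_of_comp _ (pullback.fst h h).left
    haveI : Mono δ.left := (Over.forget S).map_mono δ
    exact (IsClosedImmersion.iff_isProper_and_mono δ.left).2
      ⟨{ toUniversallyClosed := inferInstance }, inferInstance⟩
  exact ‹IsClosedImmersion δ.left›

omit [IsAffine TD.left] in
include hY hZ hcov hred in
/-- A space covered by two affine closed subspaces, with reduced charts, is a scheme. -/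
theorem isRepresentable_of_two_affine (hU : IsAlgSpace U) {V0 : S.Opens} (hV0 : IsAffineOpen V0)
    (hYV : ∀ y, oY.hom y ∈ V0) (hZV : ∀ z, oZ.hom z ∈ V0) : U.obj.IsRepresentable := by
  haveI : CompactSpace (Points U) := by
    rw [← isCompact_univ_iff, ← hcov]
    haveI := compactSpace_points_of_isQuasiCompactSp (isQuasiCompactSp_yon_affine (U := oY) inferInstance)
    haveI := compactSpace_points_of_isQuasiCompactSp (isQuasiCompactSp_yon_affine (U := oZ) inferInstance)
    exact (isCompact_range (Points.continuous_map _)).union (isCompact_range (Points.continuous_map _))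
  obtain ⟨W, p, hWA, hp, hsr⟩ := exists_affine_chart hU isOpen_univ isCompact_univ
  haveI : IsAffine W.left := hWA
  have hps : RepWith @Surjective p := repWith_surjective_of_map hp.1 fun x => by
    obtain ⟨w, hw⟩ := hsr.ge (Set.mem_univ x)
    exact ⟨Points.ofScheme W w, (Points.ofPt_eq_map_ofScheme p w).symm.trans hw⟩
  obtain ⟨TD, d, c', sqD'⟩ := hY.1 iZ
  obtain ⟨c, rfl⟩ := (yon S).map_surjective c'
  have sqD : IsPullback ((yon S).map c) ((yon S).map d) iY iZ := sqD'
  haveI : IsClosedImmersion d.left := hY.2 _ _ _ sqD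
  haveI : IsClosedImmersion c.left := hZ.2 _ _ _ sqD.flip
  haveI : IsAffine TD.left := isAffine_of_isAffineHom d.left
  obtain ⟨γR, hstr⟩ := exists_structure (c := c) (d := d) hcov hred hY hZ hV0 hYV hZV
  let T : Over S := Over.mk (Spec.map (CommRingCat.ofHom γR) ≫ hV0.fromSpec)
  obtain ⟨θ, hθ⟩ := exists_theta hcov hred hY hZ sqD hp
  let h : W ⟶ T := Over.homMk (W.left.toSpecΓ ≫ Spec.map (CommRingCat.ofHom θ)) (hstr hp θ hθ)
  let g₀ : Spec (CommRingCat.of (glueRing c d)) ⟶ T.left := 𝟙 _
  have hh : h.left = (W.left.toSpecΓ ≫ Spec.map (CommRingCat.ofHom θ)) ≫ g₀ := (Category.comp_id _).symm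
  obtain ⟨P, s, t', sq'⟩ := hp.1 p
  obtain ⟨t, rfl⟩ := (yon S).map_surjective t'
  have sq : IsPullback ((yon S).map t) ((yon S).map s) p p := sq'
  have hst : t ≫ h = s ≫ h := theta_coequalizes hY hZ hcov hred hp hθ sq g₀ h hh
  haveI : Mono g₀ := inferInstanceAs (Mono (𝟙 (Spec (CommRingCat.of (glueRing c d)))))
  obtain ⟨hcoeq⟩ := nonempty_isColimit_of_atlas hp hps sq.flip
  obtain ⟨q, hq⟩ := Cofork.IsColimit.desc' hcoeq ((yon S).map h) (by
    rw [← Functor.map_comp, ← Functor.map_comp, hst])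
  replace hq : p ≫ q = (yon S).map h := hq
  obtain ⟨hft, hqf⟩ := theta_finiteType_quasiFinite hY hZ hcov hred sqD hp hθ
  have hP : (@LocallyQuasiFinite ⊓ @LocallyOfFiniteType : MorphismProperty Scheme.{u}) h.left := by
    haveI : IsIso W.left.toSpecΓ := inferInstance
    refine ⟨?_, ?_⟩
    · exact (MorphismProperty.cancel_left_of_respectsIso @LocallyQuasiFinite W.left.toSpecΓ _).2
        ((HasRingHomProperty.Spec_iff (P := @LocallyQuasiFinite)).2 hqf)
    · exact (MorphismProperty.cancel_left_of_respectsIso @LocallyOfFiniteType W.left.toSpecΓ _).2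
        ((HasRingHomProperty.Spec_iff (P := @LocallyOfFiniteType)).2 hft)
  have hlocP : LocP (@LocallyQuasiFinite ⊓ @LocallyOfFiniteType) q :=
    locP_of_one_chart (etLocal_inf etLocal_lqf etLocal_lft) h hp hps (repWith_id _ T) (by rw [Category.comp_id, hq]) hP
  have hsep : IsSeparatedMor q := isSeparatedMor_of_chart hU hp hps hq sq hst
    (theta_diagonal_closedImmersion hY hZ hcov hp hθ sq g₀ h hh hst)
  obtain ⟨V, g, fst, sqV⟩ := representable_of_lqf_separated hU (IsAlgSpace.yon_obj T) hsep hlocP (𝟙 _)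
  haveI := sqV.isIso_fst_of_isIso
  exact isRepresentable_iff_exists_iso.2 ⟨V, ⟨asIso fst⟩⟩

end Groth.Agent.H12AlgSp.TwoClosed
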