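import Groth.Agent.H12AlgSp.TwoClosed.Main
import Groth.Agent.H12AlgSp.OpenScheme
import Groth.Agent.H12AlgSp.SchImageApps
import Groth.Agent.H13AlgSp.RedInduced
import Groth.Agent.H13AlgSp.InductionPrinciple
import Groth.Agent.H13AlgSp.ThickFlat

/-!
A reduced space covered by two closed subschemes is a scheme.
-/

set_option autoImplicit false
set_option backward.isDefEq.respectTransparency false
set_option linter.style.haveILetI false

universe u

open CategoryTheory CategoryTheory.Limits AlgebraicGeometry Opposite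
open AlgSp Groth.Agent.H13AlgSp

namespace Groth.Agent.H12AlgSp.TwoClosed

variable {S : Scheme.{u}}

/-- Matching affine neighbourhoods in two schemes with a common closed subscheme. -/
theorem exists_affine_pair {TY TZ TD : Over S} (c : TD ⟶ TY) (d : TD ⟶ TZ)
    [IsClosedImmersion c.left] [IsClosedImmersion d.left] (y : TY.left) :
    ∃ (V0 : S.Opens) (OY : TY.left.Opens) (OZ : TZ.left.Opens), IsAffineOpen V0 ∧ IsAffineOpen OY ∧
      IsAffineOpen OZ ∧ y ∈ OY ∧ OY ≤ TY.hom ⁻¹ᵁ V0 ∧ OZ ≤ TZ.hom ⁻¹ᵁ V0 ∧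
      c.left ⁻¹ᵁ OY = d.left ⁻¹ᵁ OZ := by
  obtain ⟨V0, hV0, hyV, -⟩ := exists_isAffineOpen_mem_and_subset (X := S) (x := TY.hom y) (U := ⊤) trivial
  by_cases hy : y ∈ Set.range c.left
  · obtain ⟨w, rfl⟩ := hy
    have hz : TZ.hom (d.left w) ∈ V0 := by
      rw [← Scheme.Hom.comp_apply, Over.w d, ← Over.w c, Scheme.Hom.comp_apply]
      exact hyV
    obtain ⟨OY, hOY, hyO, hOYV⟩ := exists_isAffineOpen_mem_and_subset (X := TY.left) (U := TY.hom ⁻¹ᵁ V0) hyV
    obtain ⟨OZ, hOZ, hzO, hOZV⟩ := exists_isAffineOpen_mem_and_subset (X := TZ.left) (U := TZ.hom ⁻¹ᵁ V0) hz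
    obtain ⟨f, g, hfg, hw⟩ := exists_basicOpen_le_affine_inter (hOY.preimage c.left) (hOZ.preimage d.left) w
      ⟨hyO, hzO⟩
    obtain ⟨F, rfl⟩ := c.left.app_surjective OY hOY f
    obtain ⟨G, rfl⟩ := d.left.app_surjective OZ hOZ g
    rw [← Scheme.preimage_basicOpen, ← Scheme.preimage_basicOpen] at hfg
    rw [← Scheme.preimage_basicOpen] at hw
    exact ⟨V0, TY.left.basicOpen F, TZ.left.basicOpen G, hV0, hOY.basicOpen F, hOZ.basicOpen G, hw,
      (TY.left.basicOpen_le F).trans hOYV, (TZ.left.basicOpen_le G).trans hOZV, hfg⟩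
  · obtain ⟨OY, hOY, hyO, hOYs⟩ := exists_isAffineOpen_mem_and_subset (X := TY.left)
      (U := TY.hom ⁻¹ᵁ V0 ⊓ ⟨(Set.range c.left)ᶜ, c.left.isClosedEmbedding.isClosed_range.isOpen_compl⟩)
      ⟨hyV, hy⟩
    refine ⟨V0, OY, ⊥, hV0, hOY, isAffineOpen_bot _, hyO, fun _ h => (hOYs h).1, bot_le, ?_⟩
    ext w
    exact ⟨fun h => ((hOYs h).2 ⟨w, rfl⟩).elim, fun h => h.elim⟩

theorem injective_ofPt_of_closed {T : Over S} {X : Sp S} {i : (yon S).obj T ⟶ X} (hi : RepWith @IsClosedImmersion i) :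
    Function.Injective (Points.ofPt i) := by
  haveI : Mono i := mono_of_repWith (fun _ _ k (_ : IsClosedImmersion k) => (inferInstance : Mono k)) hi
  rw [show Points.ofPt i = Points.map i ∘ Points.schemeHomeo T from
    funext fun t => Points.ofPt_eq_map_ofScheme i t]
  exact (injective_map_of_mono i).comp (Points.schemeHomeo T).injective

variable {X : Sp S} {TY TZ : Over S} {iY : (yon S).obj TY ⟶ X} {iZ : (yon S).obj TZ ⟶ X}

/-- An affine piece of a closed subscheme over an open subspace. -/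
theorem exists_piece_open (hX : IsAlgSpace X) {O : Set (Points X)} (hO : IsOpen O) {T : Over S} {i : (yon S).obj T ⟶ X}
    (hi : RepWith @IsClosedImmersion i) {OT : T.left.Opens} (hOT : IsAffineOpen OT)
    (h : Points.ofPt i ⁻¹' O = (OT : Set T.left)) {V0 : S.Opens} (hV : OT ≤ T.hom ⁻¹ᵁ V0) :
    ∃ (o : Over S) (i' : (yon S).obj o ⟶ openSub O), IsAffine o.left ∧ RepWith @IsClosedImmersion i' ∧
      (∀ v, o.hom v ∈ V0) ∧
      ∀ y ∈ OT, ∃ v, Points.map (openSubι O) (Points.ofPt i' v) = Points.ofPt i y := by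
  obtain ⟨o, k, i', sq⟩ := (repWith_openSubι hO).rep i
  haveI : IsOpenImmersion k.left := (repWith_openSubι hO).property _ _ _ sq
  have hX' : RepWith @IsClosedImmersion i' := repWith_of_isPullback sq.flip hi
  have hr : Set.range k.left = (OT : Set T.left) := by
    rw [← h, ← preimage_ofPt_range sq]
    congr 1
    exact range_openSubι hX O
  have hro : k.left.opensRange = OT := TopologicalSpace.Opens.ext hr
  haveI : IsAffine o.left := by
    haveI : IsAffine k.left.opensRange.toScheme := hro ▸ hOT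
    exact IsAffine.of_isIso k.left.isoOpensRange.hom
  refine ⟨o, i', ‹_›, hX', fun v => ?_, fun y hy => ?_⟩
  · rw [← Over.w k, Scheme.Hom.comp_apply]
    exact hV (hr.le ⟨v, rfl⟩)
  · obtain ⟨v, rfl⟩ := hr.ge hy
    exact ⟨v, by rw [Points.map_ofPt, sq.w, ofPt_map]⟩

/-- Around a point of the first subscheme the space is a scheme. -/
theorem exists_open_scheme_around (hX : IsAlgSpace X) (hred : IsReducedSp X) (hY : RepWith @IsClosedImmersion iY)
    (hZ : RepWith @IsClosedImmersion iZ)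
    (hcov : Set.range (Points.map iY) ∪ Set.range (Points.map iZ) = Set.univ) (y : TY.left) :
    ∃ (U : Sp S) (j : U ⟶ X), IsAlgSpace U ∧ RepWith @IsOpenImmersion j ∧ U.obj.IsRepresentable ∧
      Points.ofPt iY y ∈ Set.range (Points.map j) := by
  obtain ⟨TD, d, c', sqD'⟩ := hY.1 iZ
  obtain ⟨c, rfl⟩ := (yon S).map_surjective c'
  have sqD : IsPullback ((yon S).map c) ((yon S).map d) iY iZ := sqD'
  haveI : IsClosedImmersion d.left := hY.2 _ _ _ sqD
  haveI : IsClosedImmersion c.left := hZ.2 _ _ _ sqD.flip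
  obtain ⟨V0, OY, OZ, hV0, hOY, hOZ, hy, hYV, hZV, hcd⟩ := exists_affine_pair c d y
  have key : ∀ (a : TY.left) (b : TZ.left), Points.ofPt iY a = Points.ofPt iZ b → (a ∈ OY ↔ b ∈ OZ) := by
    intro a b e
    obtain ⟨w, hw⟩ := (preimage_ofPt_range sqD).le
      (show Points.ofPt iZ b ∈ Set.range (Points.map iY) from
        ⟨_, (Points.ofPt_eq_map_ofScheme iY a).symm.trans e⟩)
    have hca : c.left w = a := injective_ofPt_of_closed hY (by
      rw [← ofPt_map, sqD.w, ofPt_map, hw, e])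
    rw [← hca, ← hw]
    exact SetLike.ext_iff.1 hcd w
  let C : Set (Points X) := Points.ofPt iY '' (OY : Set TY.left)ᶜ ∪ Points.ofPt iZ '' (OZ : Set TZ.left)ᶜ
  have hclosed : ∀ {T : Over S} {i : (yon S).obj T ⟶ X}, RepWith @IsClosedImmersion i →
      ∀ O : T.left.Opens, IsClosed (Points.ofPt i '' (O : Set T.left)ᶜ) := fun {T i} hi O => by
    rw [show Points.ofPt i = Points.map i ∘ Points.schemeHomeo T from
      funext fun t => Points.ofPt_eq_map_ofScheme i t, Set.image_comp]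
    exact isClosedMap_map_of_repWith (fun _ _ k (_ : IsClosedImmersion k) => inferInstance) hi _
      ((Points.schemeHomeo T).isClosedMap _ O.isOpen.isClosed_compl)
  have hO : IsOpen Cᶜ := ((hclosed hY OY).union (hclosed hZ OZ)).isOpen_compl
  have hpY : Points.ofPt iY ⁻¹' Cᶜ = (OY : Set TY.left) := by
    ext a
    refine ⟨fun h => not_not.1 fun ha => h (Or.inl ⟨a, ha, rfl⟩), fun ha => ?_⟩
    rintro (⟨a', ha', e⟩ | ⟨b, hb, e⟩)
    · exact ha' (injective_ofPt_of_closed hY e ▸ ha)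
    · exact hb ((key a b e.symm).1 ha)
  have hpZ : Points.ofPt iZ ⁻¹' Cᶜ = (OZ : Set TZ.left) := by
    ext b
    refine ⟨fun h => not_not.1 fun hb => h (Or.inr ⟨b, hb, rfl⟩), fun hb => ?_⟩
    rintro (⟨a, ha, e⟩ | ⟨b', hb', e⟩)
    · exact ha ((key a b e).2 hb)
    · exact hb' (injective_ofPt_of_closed hZ e ▸ hb)
  obtain ⟨oY, iY', hoY, hY', hYV', hY''⟩ := exists_piece_open hX hO hY hOY hpY hYV
  obtain ⟨oZ, iZ', hoZ, hZ', hZV', hZ''⟩ := exists_piece_open hX hO hZ hOZ hpZ hZV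
  have hU : IsAlgSpace (openSub Cᶜ) := isAlgSpace_openSub hX hO
  have hinj := injective_map_of_mono (openSubι (X := X) Cᶜ)
  have hmem : ∀ x, Points.map (openSubι (X := X) Cᶜ) x ∈ Cᶜ := fun x =>
    (range_openSubι hX _).le ⟨x, rfl⟩
  have hcov' : Set.range (Points.map iY') ∪ Set.range (Points.map iZ') = Set.univ := by
    refine Set.eq_univ_iff_forall.2 fun x => ?_
    rcases hcov.ge (Set.mem_univ (Points.map (openSubι Cᶜ) x)) with ⟨a, ha⟩ | ⟨b, hb⟩
    · obtain ⟨a, rfl⟩ := (Points.schemeHomeo TY).surjective a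
      have ha' : Points.ofPt iY a = Points.map (openSubι Cᶜ) x := (Points.ofPt_eq_map_ofScheme iY a).trans ha
      obtain ⟨v, hv⟩ := hY'' a (hpY.le (show Points.ofPt iY a ∈ Cᶜ from ha' ▸ hmem x))
      exact Or.inl ⟨_, (Points.ofPt_eq_map_ofScheme iY' v).symm.trans (hinj (hv.trans ha'))⟩
    · obtain ⟨b, rfl⟩ := (Points.schemeHomeo TZ).surjective b
      have hb' : Points.ofPt iZ b = Points.map (openSubι Cᶜ) x := (Points.ofPt_eq_map_ofScheme iZ b).trans hb
      obtain ⟨v, hv⟩ := hZ'' b (hpZ.le (show Points.ofPt iZ b ∈ Cᶜ from hb' ▸ hmem x))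
      exact Or.inr ⟨_, (Points.ofPt_eq_map_ofScheme iZ' v).symm.trans (hinj (hv.trans hb'))⟩
  refine ⟨openSub Cᶜ, openSubι Cᶜ, hU, repWith_openSubι hO, ?_, ?_⟩
  · haveI := hoY; haveI := hoZ
    exact isRepresentable_of_two_affine hY' hZ' hcov'
      (fun W a ha => Groth.Agent.H12AlgSp.isReduced_of_chart hX hred (repWith_comp ha
        (repWith_le (fun _ _ k (_ : IsOpenImmersion k) => inferInstanceAs (Etale k)) (repWith_openSubι hO))))
      hU hV0 hYV' hZV'
  · rw [range_openSubι hX]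
    exact hpY.ge hy

/-- A reduced space covered by two closed subschemes is a scheme. -/
theorem isRepresentable_of_two_closed (X : Space S) (hred : IsReducedSp X.obj) {TY TZ : Over S}
    {iY : (yon S).obj TY ⟶ X.obj} {iZ : (yon S).obj TZ ⟶ X.obj} (hY : RepWith @IsClosedImmersion iY)
    (hZ : RepWith @IsClosedImmersion iZ)
    (hcov : Set.range (Points.map iY) ∪ Set.range (Points.map iZ) = Set.univ) : X.obj.obj.IsRepresentable := by
  obtain ⟨X', j, hj, hX', hmax⟩ := exists_largest_open_subscheme X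
  have hmem : ∀ {TY TZ : Over S} {iY : (yon S).obj TY ⟶ X.obj} {iZ : (yon S).obj TZ ⟶ X.obj},
      RepWith @IsClosedImmersion iY → RepWith @IsClosedImmersion iZ →
      Set.range (Points.map iY) ∪ Set.range (Points.map iZ) = Set.univ →
      ∀ y : TY.left, Points.ofPt iY y ∈ Set.range (Points.map j.hom) := by
    intro TY TZ iY iZ hY hZ hcov y
    obtain ⟨U, k, hU, hk, hUr, hy⟩ := exists_open_scheme_around X.property hred hY hZ hcov y
    obtain ⟨l, hl⟩ := hmax ⟨U, hU⟩ (ObjectProperty.homMk k) hk hUr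
    exact range_map_subset_of_factor (congrArg (·.hom) hl) hy
  have hs : Function.Surjective (Points.map j.hom) := fun x => by
    rcases hcov.ge (Set.mem_univ x) with ⟨a, rfl⟩ | ⟨b, rfl⟩
    · obtain ⟨a, rfl⟩ := (Points.schemeHomeo TY).surjective a
      obtain ⟨w, hw⟩ := hmem hY hZ hcov a
      exact ⟨w, hw.trans (Points.ofPt_eq_map_ofScheme iY a)⟩
    · obtain ⟨b, rfl⟩ := (Points.schemeHomeo TZ).surjective b
      obtain ⟨w, hw⟩ := hmem hZ hY (by rwa [Set.union_comm]) b
      exact ⟨w, hw.trans (Points.ofPt_eq_map_ofScheme iZ b)⟩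
  haveI := ThickFlat.isIso_of_openImmersion_surjective X.property hj hs
  obtain ⟨T, ⟨e⟩⟩ := isRepresentable_iff_exists_iso.1 hX'
  exact isRepresentable_iff_exists_iso.2 ⟨T, ⟨e ≪≫ asIso j.hom⟩⟩

end Groth.Agent.H12AlgSp.TwoClosed
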